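import Groth.Agent.InvUfdLib.Trivial
import Groth.Agent.H23.PullPush
import Groth.Agent.H23.Frame
import Groth.Agent.QCoh.Localize
import Groth.Agent.QCoh.LocFree

/-!
An invertible module is trivial near a finite discrete fibre of a finite morphism.
-/

universe u

open CategoryTheory AlgebraicGeometry TopologicalSpace Opposite

namespace Groth.Agent.InvUfdLib

open Groth.Agent.AModX Groth.Agent.InvX

variable {X : Scheme.{u}} {L : X.Modules}

/-- A frame over an open trivializes the restriction to that open. -/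
lemma nonempty_iso_restrict_of_frame {U : X.Opens} {s : Γ(L, U)} (hs : IsFrame s) :
    Nonempty (L.restrict U.ι ≅ Coh.structureModule U.toScheme) := by
  have hU : U.ι ''ᵁ ⊤ ≤ U := U.ι_image_top.le
  refine nonempty_iso_of_frame (s := (show Γ(L.restrict U.ι, ⊤) from res L hU s)) fun W _ => ?_
  have hW : U.ι ''ᵁ W ≤ U := (U.ι.image_mono le_top).trans hU
  have e : (fun r : Γ(U.toScheme, W) => (show Γ(X, U.ι ''ᵁ W) from r) • res L hW s) =
      fun r : Γ(U.toScheme, W) => (show Γ(L, U.ι ''ᵁ W) from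
        r • res (L.restrict U.ι) (le_top : W ≤ ⊤) (show Γ(L.restrict U.ι, ⊤) from res L hU s)) := by
    funext r
    refine Eq.symm ((H23.Frame.restrict_smul U W r _).trans ?_)
    exact congrArg ((show Γ(X, U.ι ''ᵁ W) from r) • ·) (res_res hU (U.ι.image_mono le_top) s)
  exact (congrArg Function.Bijective e).mp (hs (U.ι ''ᵁ W) hW)

/-- Near finitely many points of an affine open without specializations among them, one section
generates an invertible module. -/
lemma exists_frame_finset (hL : PicF.IsInvertible L) {A : X.Opens} (hA : IsAffineOpen A) (F : Set X)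
    (hF : F.Finite) (hFA : F ⊆ A) (hFd : ∀ x ∈ F, ∀ y ∈ F, x ⤳ y → x = y) :
    ∃ (O : X.Opens) (s : Γ(L, O)), F ⊆ O ∧ IsFrame s := by
  classical
  have hq : Coh.IsQCoh L := QCoh.isQCoh_of_isFinLocFree (H23.PullPush.isFinLocFree_of_isInvertible hL)
  have hloc : ∀ x ∈ F, ∃ (b : Γ(X, A)) (t : Γ(L, A)), x ∈ X.basicOpen b ∧
      IsFrame (res L (X.basicOpen_le b) t) := by
    intro x hx
    obtain ⟨U, hxU, e, he⟩ := exists_frame hL x
    obtain ⟨b, hbU, hxb⟩ := hA.exists_basicOpen_le ⟨x, hxU⟩ (hFA hx)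
    obtain ⟨n, t, ht⟩ := QCoh.exists_pow_smul_eq_map hq hA b (res L hbU e)
    refine ⟨b, t, hxb, ?_⟩
    rw [show res L (X.basicOpen_le b) t = _ from ht]
    exact (he.res hbU).isUnit_smul ((isUnit_resR (X.basicOpen_le b) b le_rfl).pow n)
  choose! b t hxb ht using hloc
  have hsep : ∀ x ∈ F, ∀ y ∈ F, x ≠ y → ∃ g : Γ(X, A), x ∈ X.basicOpen g ∧ y ∉ X.basicOpen g := by
    intro x hx y hy hne
    let O : X.Opens := ⟨(closure {y})ᶜ, isClosed_closure.isOpen_compl⟩
    have hxO : x ∈ O := fun h => hne (hFd y hy x hx (specializes_iff_mem_closure.2 h)).symm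
    obtain ⟨g, hgO, hxg⟩ := hA.exists_basicOpen_le ⟨x, hxO⟩ (hFA hx)
    exact ⟨g, hxg, fun h => hgO h (subset_closure rfl)⟩
  choose! g hgx hgy using hsep
  let a : X → Γ(X, A) := fun x => ∏ y ∈ hF.toFinset.erase x, g x y
  let s : Γ(L, A) := ∑ x ∈ hF.toFinset, a x • t x
  have key : ∀ x ∈ F, ∃ W : X.Opens, x ∈ W ∧ ∃ hW : W ≤ A, IsFrame (res L hW s) := by
    intro x hx
    let D := X.basicOpen (b x)
    have hc := fun y => (ht x hx).exists_coord (le_refl D) (res L (X.basicOpen_le (b x)) (t y))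
    choose c hc using hc
    simp only [res_self] at hc
    let C : Γ(X, D) := ∑ y ∈ hF.toFinset, resR (X.basicOpen_le (b x)) (a y) * c y
    have hC : res L (X.basicOpen_le (b x)) s = C • res L (X.basicOpen_le (b x)) (t x) := by
      simp only [s, C, map_sum, res_smul, Finset.sum_smul, mul_smul]
      exact Finset.sum_congr rfl fun y _ => congrArg _ (hc y)
    have hxC : x ∈ X.basicOpen C := by
      rw [Scheme.mem_basicOpen X C x (hxb x hx)]
      have hsum : (X.presheaf.germ D x (hxb x hx)) C =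
          ∑ y ∈ hF.toFinset, (X.presheaf.germ A x (hFA hx)) (a y) * (X.presheaf.germ D x (hxb x hx)) (c y) := by
        simp only [C, map_sum, map_mul]
        exact Finset.sum_congr rfl fun y _ => congrArg (· * _) (X.presheaf.germ_res_apply _ _ _ _)
      have hcx : c x = 1 := (ht x hx).coord_unique (le_refl D) (by
        simp only [res_self, one_smul]; exact (hc x).symm)
      have hu : IsUnit ((X.presheaf.germ A x (hFA hx)) (a x)) := by
        rw [map_prod]
        refine IsUnit.prod_iff.2 fun y hy => ?_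
        obtain ⟨hne, hy⟩ := Finset.mem_erase.1 hy
        exact (Scheme.mem_basicOpen X _ x (hFA hx)).1 (hgx x hx y (hF.mem_toFinset.1 hy) hne.symm)
      rw [hsum, ← Finset.add_sum_erase _ _ (hF.mem_toFinset.2 hx), hcx, map_one, mul_one]
      rw [← IsLocalRing.notMem_maximalIdeal]
      intro hmem
      refine (IsLocalRing.notMem_maximalIdeal.2 hu) ((Ideal.add_mem_iff_left _ ?_).1 hmem)
      refine Ideal.sum_mem _ fun y hy => Ideal.mul_mem_right _ _ ?_
      obtain ⟨hne, hy⟩ := Finset.mem_erase.1 hy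
      have hgm : (X.presheaf.germ A x (hFA hx)) (g y x) ∈ IsLocalRing.maximalIdeal (X.presheaf.stalk x) :=
        fun h => hgy y (hF.mem_toFinset.1 hy) x hx hne ((Scheme.mem_basicOpen X _ x (hFA hx)).2 h)
      exact Ideal.mem_of_dvd _ (map_dvd _ (Finset.dvd_prod_of_mem _
        (Finset.mem_erase.2 ⟨hne.symm, hF.mem_toFinset.2 hx⟩))) hgm
    refine ⟨X.basicOpen C, hxC, (X.basicOpen_le C).trans (X.basicOpen_le (b x)), ?_⟩
    have := congrArg (res L (X.basicOpen_le C)) hC
    rw [res_smul, res_res] at this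
    rw [this]
    exact ((ht x hx).res _).isUnit_smul (isUnit_resR _ _ le_rfl)
  choose! W hxW hWA hW using key
  let O : X.Opens := ⨆ x : F, W x.1
  have hO : O ≤ A := iSup_le fun x => hWA x.1 x.2
  refine ⟨O, res L hO s, fun x hx => Opens.mem_iSup.2 ⟨⟨x, hx⟩, hxW x hx⟩, ?_⟩
  refine isFrame_of_cover (fun x : F => W x.1) (fun x => le_iSup (fun x : F => W x.1) x)
    (fun x hx => Opens.mem_iSup.1 hx) _ fun x => ?_
  rw [res_res]
  exact hW x.1 x.2

theorem exists_iso_near_fibre {Y : Scheme.{u}} (π : X ⟶ Y) [IsFinite π] (hL : PicF.IsInvertible L) (y : Y) :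
    ∃ V : Y.Opens, y ∈ V ∧
      Nonempty (L.restrict (π ⁻¹ᵁ V).ι ≅ Coh.structureModule (↑(π ⁻¹ᵁ V))) := by
  obtain ⟨_, ⟨V₀, hV₀, rfl⟩, hyV₀, -⟩ :=
    Y.isBasis_affineOpens.exists_subset_of_mem_open (Set.mem_univ y) isOpen_univ
  have hd : ∀ x ∈ π ⁻¹' {y}, ∀ x' ∈ π ⁻¹' {y}, x ⤳ x' → x = x' := by
    intro x hx x' hx' h
    have := (π.isDiscrete_preimage_singleton y).1
    have h' : (⟨x, hx⟩ : π ⁻¹' {y}) ⤳ ⟨x', hx'⟩ := (subtype_specializes_iff _ _).2 h
    exact congrArg Subtype.val h'.eq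
  obtain ⟨O, s, hFO, hs⟩ := exists_frame_finset hL (hV₀.preimage π) (π ⁻¹' {y})
    (π.finite_preimage_singleton y)
    (fun x (hx : π x = y) => show π x ∈ V₀ from hx ▸ hyV₀) hd
  let Z : Set Y := π '' ((O : Set X)ᶜ)
  have hZ : IsClosed Z := π.isClosedMap _ O.isOpen.isClosed_compl
  let V : Y.Opens := ⟨Zᶜ, hZ.isOpen_compl⟩
  have hy : y ∈ V := by
    rintro ⟨x, hx, rfl⟩
    exact hx (hFO rfl)
  have hle : π ⁻¹ᵁ V ≤ O := fun x hx => not_not.1 fun h => hx ⟨x, h, rfl⟩
  exact ⟨V, hy, nonempty_iso_restrict_of_frame (hs.res hle)⟩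

end Groth.Agent.InvUfdLib
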