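import Groth.Agent.InvUfdLib.Units
import Groth.Agent.InvX.Frame

/-!
An invertible module on an open subscheme of the spectrum of a factorial ring is trivial.
-/

universe u

open CategoryTheory AlgebraicGeometry TopologicalSpace Opposite

namespace Groth.Agent.InvUfdLib

open Groth.Agent.AModX Groth.Agent.InvX

section General

variable {X : Scheme.{u}} {L : X.Modules}

/-- A section which is locally a frame is a frame. -/
lemma isFrame_of_cover {ι : Type u} {U : X.Opens} (W : ι → X.Opens) (hW : ∀ i, W i ≤ U)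
    (hcov : ∀ x ∈ U, ∃ i, x ∈ W i) (s : Γ(L, U))
    (hs : ∀ i, IsFrame (res L (hW i) s)) : IsFrame s := by
  intro V hV
  refine ⟨fun r r' h => ?_, fun x => ?_⟩
  · refine eq_of_locally (M := Coh.structureModule X) _ _ fun p hp => ?_
    obtain ⟨i, hi⟩ := hcov p (hV hp)
    refine ⟨V ⊓ W i, inf_le_left, ⟨hp, hi⟩, ?_⟩
    show resR inf_le_left r = resR inf_le_left r'
    refine (hs i).coord_unique inf_le_right ?_
    have := congrArg (res L (inf_le_left : V ⊓ W i ≤ V)) h
    simp only [res_smul, res_res] at this ⊢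
    exact this
  · have hc := fun i => (hs i).exists_coord inf_le_right (res L (inf_le_left : V ⊓ W i ≤ V) x)
    choose c hc using hc
    simp only [res_res] at hc
    obtain ⟨r, hr, -⟩ := existsUnique_glue (M := Coh.structureModule X) (V := V) (fun i => V ⊓ W i)
      (fun _ => inf_le_left) (fun p hp => (hcov p (hV hp)).imp fun i hi => ⟨hp, hi⟩) c fun i j => by
        show resR inf_le_left (c i) = resR inf_le_right (c j)
        have hle : (V ⊓ W i) ⊓ (V ⊓ W j) ≤ W j := inf_le_right.trans inf_le_right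
        refine (hs j).coord_unique hle ?_
        have h1 := congrArg (res L (inf_le_left : (V ⊓ W i) ⊓ (V ⊓ W j) ≤ V ⊓ W i)) (hc i)
        have h2 := congrArg (res L (inf_le_right : (V ⊓ W i) ⊓ (V ⊓ W j) ≤ V ⊓ W j)) (hc j)
        simp only [res_smul, res_res] at h1 h2 ⊢
        exact h1.symm.trans h2
    refine ⟨(show Γ(X, V) from r), eq_of_locally _ _ fun p hp => ?_⟩
    obtain ⟨i, hi⟩ := hcov p (hV hp)
    refine ⟨V ⊓ W i, inf_le_left, ⟨hp, hi⟩, ?_⟩
    show res L _ ((show Γ(X, V) from r) • res L hV s) = _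
    rw [res_smul, res_res, hc i]
    exact congrArg (· • _) (hr i)

lemma isFrame_one : IsFrame (M := Coh.structureModule X) (U := ⊤) (1 : Γ(X, ⊤)) := fun V h => by
  have : (fun r : Γ(X, V) => r • res (Coh.structureModule X) h (1 : Γ(X, ⊤))) = id := funext fun r => by
    show r * resR h 1 = r
    rw [map_one, mul_one]
  exact this ▸ Function.bijective_id

/-- A global frame trivializes. -/
lemma nonempty_iso_of_frame {s : Γ(L, ⊤)} (hs : IsFrame s) : Nonempty (L ≅ Coh.structureModule X) := by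
  let U : PUnit.{u + 1} → X.Opens := fun _ => ⊤
  have hcov : ∀ x, ∃ a, x ∈ U a := fun x => ⟨⟨⟩, trivial⟩
  let one : Γ(Coh.structureModule X, (⊤ : X.Opens)) := (1 : Γ(X, ⊤))
  let φ : L ⟶ Coh.structureModule X := ofFrames (U := U) (e := fun _ => s) (n := fun _ => one) hcov
    (fun _ => hs) fun _ _ W ha hb g h => by
      have : g = 1 := hs.coord_unique ha (by rw [one_smul]; exact h.symm)
      rw [this, one_smul]
  let ψ : Coh.structureModule X ⟶ L := ofFrames (U := U) (e := fun _ => one) (n := fun _ => s) hcov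
    (fun _ => isFrame_one) fun _ _ W ha hb g h => by
      have : g = 1 := isFrame_one.coord_unique ha (by rw [one_smul]; exact h.symm)
      rw [this, one_smul]
  have h1 : φ.app ⊤ s = one := ofFrames_app (U := U) (e := fun _ => s) (n := fun _ => one) _ _ _ ⟨⟩
  have h2 : ψ.app ⊤ one = s := ofFrames_app (U := U) (e := fun _ => one) (n := fun _ => s) _ _ _ ⟨⟩
  refine ⟨⟨φ, ψ, hom_ext_of_frames U hcov (fun _ => s) (fun _ => hs) fun _ => ?_,
    hom_ext_of_frames U hcov (fun _ => one) (fun _ => isFrame_one) fun _ => ?_⟩⟩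
  · show ψ.app ⊤ (φ.app ⊤ s) = s
    rw [h1, h2]
  · show φ.app ⊤ (ψ.app ⊤ one) = one
    rw [h2, h1]

end General

section Affine

variable {R : CommRingCat.{u}} [IsDomain R]

local notation "η" => genericPoint (Spec R)

lemma germ_algebraMap {V : (Spec R).Opens} (h : η ∈ V) (r : R) :
    (Spec R).presheaf.germ V η h (algebraMap R Γ(Spec R, V) r) = algebraMap R (Spec R).functionField r :=
  StructureSheaf.algebraMap_germ_apply V η h r

lemma generic_mem_basicOpen {f : R} (hf : f ≠ 0) : η ∈ (PrimeSpectrum.basicOpen f : (Spec R).Opens) := by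
  rw [genericPoint_eq_bot_of_affine]
  exact fun h => hf h

/-- Units on a basic open, in the function field. -/
lemma un_of_isUnit {f : R} (hf : f ≠ 0) {x : Γ(Spec R, PrimeSpectrum.basicOpen f)} (hx : IsUnit x) :
    Un f ((Spec R).presheaf.germ _ η (generic_mem_basicOpen hf) x) := by
  obtain ⟨y, hy⟩ := hx.exists_right_inv
  obtain ⟨⟨r, ⟨_, n, rfl⟩⟩, hr⟩ := IsLocalization.surj (Submonoid.powers f) x
  obtain ⟨⟨r', ⟨_, n', rfl⟩⟩, hr'⟩ := IsLocalization.surj (Submonoid.powers f) y
  simp only at hr hr'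
  have h1 := congrArg ((Spec R).presheaf.germ _ η (generic_mem_basicOpen hf)) hr
  have h2 := congrArg ((Spec R).presheaf.germ _ η (generic_mem_basicOpen hf)) hr'
  simp only [map_mul, germ_algebraMap] at h1 h2
  have hxy := congrArg ((Spec R).presheaf.germ _ η (generic_mem_basicOpen hf)) hy
  simp only [map_mul, map_one] at hxy
  refine ⟨n + n', r, f ^ n, Dvd.intro r' ?_, ⟨f ^ n', pow_add f n n'⟩, h1⟩
  apply IsFractionRing.injective R (Spec R).functionField
  rw [map_mul, ← h1, ← h2, pow_add, map_mul]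
  linear_combination (algebraMap R (Spec R).functionField (f ^ n) *
    algebraMap R (Spec R).functionField (f ^ n')) * hxy

/-- Units of the localization realize the group of units in the function field. -/
lemma exists_isUnit_of_un {f : R} (hf : f ≠ 0) {z : (Spec R).functionField} (hz : Un f z) :
    ∃ x : Γ(Spec R, PrimeSpectrum.basicOpen f), IsUnit x ∧
      (Spec R).presheaf.germ _ η (generic_mem_basicOpen hf) x = z := by
  obtain ⟨N, r, s, hr, hs, e⟩ := hz
  have hu : IsUnit (algebraMap R Γ(Spec R, PrimeSpectrum.basicOpen f) f ^ N) :=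
    (IsLocalization.Away.algebraMap_isUnit f).pow N
  rw [← map_pow] at hu
  have hr' := isUnit_of_dvd_unit (map_dvd (algebraMap R Γ(Spec R, PrimeSpectrum.basicOpen f)) hr) hu
  have hs' := isUnit_of_dvd_unit (map_dvd (algebraMap R Γ(Spec R, PrimeSpectrum.basicOpen f)) hs) hu
  obtain ⟨t, ht⟩ := hs'.exists_right_inv
  refine ⟨_, hr'.mul (IsUnit.of_mul_eq_one_right _ ht), ?_⟩
  have h1 := congrArg ((Spec R).presheaf.germ _ η (generic_mem_basicOpen hf)) ht
  simp only [map_mul, map_one, germ_algebraMap] at h1 ⊢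
  rw [← e, mul_assoc, h1, mul_one]

variable (U : (Spec R).Opens)

/-- A function on an open of `U`, in the function field. -/
noncomputable def toK (W : U.toScheme.Opens) (hW : η ∈ U.ι ''ᵁ W) :
    Γ(U.toScheme, W) →+* (Spec R).functionField :=
  ((Spec R).presheaf.germ (U.ι ''ᵁ W) η hW).hom

lemma toK_res {W W' : U.toScheme.Opens} (h : W' ≤ W) (hW : η ∈ U.ι ''ᵁ W) (hW' : η ∈ U.ι ''ᵁ W')
    (x : Γ(U.toScheme, W)) : toK U W' hW' (resR h x) = toK U W hW x :=
  (Spec R).presheaf.germ_res_apply (U.ι.opensFunctor.map (homOfLE h)) η hW' x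

lemma toK_injective (W : U.toScheme.Opens) (hW : η ∈ U.ι ''ᵁ W) : Function.Injective (toK U W hW) :=
  germ_injective_of_isIntegral _ η hW

theorem nonempty_iso [UniqueFactorizationMonoid R] (L : U.toScheme.Modules) (hL : PicF.IsInvertible L) :
    Nonempty (L ≅ Coh.structureModule U.toScheme) := by
  classical
  let ι' : Type u := {f : R // f ≠ 0 ∧ (PrimeSpectrum.basicOpen f : (Spec R).Opens) ≤ U ∧
    ∃ e : Γ(L, U.ι ⁻¹ᵁ PrimeSpectrum.basicOpen f), IsFrame e}
  let W : ι' → U.toScheme.Opens := fun i => U.ι ⁻¹ᵁ PrimeSpectrum.basicOpen i.1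
  have himg : ∀ i : ι', U.ι ''ᵁ W i = PrimeSpectrum.basicOpen i.1 := fun i => by
    show U.ι ''ᵁ U.ι ⁻¹ᵁ (PrimeSpectrum.basicOpen i.1 : (Spec R).Opens) = _
    rw [Scheme.Hom.image_preimage_eq_opensRange_inf, Scheme.Opens.opensRange_ι]
    exact inf_eq_right.2 i.2.2.1
  have hcov : ∀ x, ∃ i, x ∈ W i := by
    intro x
    obtain ⟨V, hxV, e, he⟩ := exists_frame hL x
    obtain ⟨_, ⟨_, ⟨f, rfl⟩, rfl⟩, hxf, hfV⟩ := PrimeSpectrum.isBasis_basic_opens.exists_subset_of_mem_open
      (show x.1 ∈ ((U.ι ''ᵁ V) : (Spec R).Opens).1 from ⟨x, hxV, rfl⟩) (U.ι ''ᵁ V).isOpen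
    have hle : U.ι ⁻¹ᵁ PrimeSpectrum.basicOpen f ≤ V := fun y hy => by
      obtain ⟨z, hz, hzy⟩ := hfV hy
      rwa [Subtype.ext hzy] at hz
    refine ⟨⟨f, fun h => ?_, fun y hy => ?_, res L hle e, he.res hle⟩, hxf⟩
    · subst h; simp at hxf
    · obtain ⟨z, -, rfl⟩ := hfV hy; exact z.2
  choose e he using fun i : ι' => i.2.2.2
  have hη : ∀ i, η ∈ U.ι ''ᵁ W i := fun i => by rw [himg]; exact generic_mem_basicOpen i.2.1
  have hη2 : ∀ i j, η ∈ U.ι ''ᵁ (W i ⊓ W j) := fun i j => by
    obtain ⟨x, hx, hx'⟩ := hη i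
    obtain ⟨y, hy, hy'⟩ := hη j
    obtain rfl : x = y := Subtype.ext (hx'.trans hy'.symm)
    exact ⟨x, ⟨hx, hy⟩, hx'⟩
  have ht := fun i j => (he j).exists_coord (inf_le_right : W i ⊓ W j ≤ W j) (res L inf_le_left (e i))
  choose t ht using ht
  let τ : ι' → ι' → (Spec R).functionField := fun i j => toK U _ (hη2 i j) (t i j)
  have hτ : ∀ i j k, τ i k = τ i j * τ j k := by
    intro i j k
    let V := W i ⊓ W j ⊓ W k
    have hij : V ≤ W i ⊓ W j := inf_le_left
    have hik : V ≤ W i ⊓ W k := inf_le_inf_right _ inf_le_left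
    have hjk : V ≤ W j ⊓ W k := inf_le_inf_right _ inf_le_right
    have hV : η ∈ U.ι ''ᵁ V := by
      obtain ⟨x, ⟨hxi, hxj⟩, hx⟩ := hη2 i j
      obtain ⟨y, ⟨-, hyk⟩, hy⟩ := hη2 i k
      obtain rfl : x = y := Subtype.ext (hx.trans hy.symm)
      exact ⟨x, ⟨⟨hxi, hxj⟩, hyk⟩, hx⟩
    have h : resR hik (t i k) = resR hij (t i j) * resR hjk (t j k) := by
      refine (he k).coord_unique (inf_le_right : V ≤ W k) ?_
      have h1 := congrArg (res L hik) (ht i k)
      have h2 := congrArg (res L hij) (ht i j)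
      have h3 := congrArg (res L hjk) (ht j k)
      simp only [res_smul, res_res] at h1 h2 h3
      rw [← h1, mul_smul, ← h3, ← h2]
    have := congrArg (toK U V hV) h
    rw [map_mul, toK_res U _ (hη2 i k), toK_res U _ (hη2 i j), toK_res U _ (hη2 j k)] at this
    exact this
  have hτ1 : ∀ i, τ i i = 1 := fun i => by
    have : t i i = 1 := (he i).coord_unique (inf_le_right : W i ⊓ W i ≤ W i) (by rw [one_smul]; exact (ht i i).symm)
    show toK U _ _ (t i i) = 1
    rw [this, map_one]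
  have hun : ∀ i j, Un (i.1 * j.1) (τ i j) := by
    intro i j
    have hu : IsUnit (t i j) := by
      have hle : W i ⊓ W j ≤ W j ⊓ W i := inf_comm (W i) (W j) ▸ le_rfl
      refine IsUnit.of_mul_eq_one (resR hle (t j i)) ((he j).coord_unique (inf_le_right : W i ⊓ W j ≤ W j) ?_)
      have h1 := congrArg (res L hle) (ht j i)
      simp only [res_smul, res_res] at h1
      rw [one_smul, mul_comm, mul_smul, ← ht i j]
      exact h1.symm
    have hne : i.1 * j.1 ≠ 0 := mul_ne_zero i.2.1 j.2.1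
    have hle : (PrimeSpectrum.basicOpen (i.1 * j.1) : (Spec R).Opens) ≤ U.ι ''ᵁ (W i ⊓ W j) := fun y hy => by
      rw [PrimeSpectrum.basicOpen_mul] at hy
      exact ⟨⟨y, i.2.2.1 hy.1⟩, ⟨hy.1, hy.2⟩, rfl⟩
    have := un_of_isUnit hne (hu.map ((Spec R).presheaf.map (homOfLE hle).op).hom)
    erw [(Spec R).presheaf.germ_res_apply] at this
    exact this
  have hτ0 : ∀ i j, τ i j ≠ 0 := fun i j => (hun i j).ne_zero (mul_ne_zero i.2.1 j.2.1)
  obtain ⟨v, hv, hvv⟩ : ∃ v : ∀ i, Γ(U.toScheme, W i), (∀ i, IsUnit (v i)) ∧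
      ∀ i j,
        toK U _ (hη i) (v i) * τ i j = toK U _ (hη j) (v j) := by
    by_cases hI : IsEmpty ι'
    · exact ⟨fun i => isEmptyElim i, fun i => isEmptyElim i, fun i => isEmptyElim i⟩
    obtain ⟨i₀⟩ := not_isEmpty_iff.1 hI
    obtain ⟨c, hc, hc'⟩ := exists_coboundary (fun i : ι' => i.1) (fun i => i.2.1) i₀.1 i₀.2.1
      (fun i => τ i i₀) (fun i j => by
        have := hun i j
        rwa [hτ i j i₀, mul_div_cancel_right₀ _ (hτ0 j i₀)]) fun i => hun i i₀
    choose v hv hvK using fun i : ι' => exists_isUnit_of_un i.2.1 ((hc' i).inv i.2.1)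
    refine ⟨fun i => ((Spec R).presheaf.map (homOfLE (himg i).le).op).hom (v i),
      fun i => (hv i).map _, fun i j => ?_⟩
    show (Spec R).presheaf.germ _ η (hη i) _ * _ = (Spec R).presheaf.germ _ η (hη j) _
    have hK : ∀ l, (Spec R).presheaf.germ _ η (hη l)
        (((Spec R).presheaf.map (homOfLE (himg l).le).op).hom (v l)) = (τ l i₀ / c)⁻¹ := fun l =>
      ((Spec R).presheaf.germ_res_apply (homOfLE (himg l).le) η (hη l) (v l)).trans (hvK l)
    beta_reduce
    erw [hK i, hK j]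
    rw [hτ i j i₀]
    have := hτ0 i j
    have := hτ0 j i₀
    field_simp
  have hglue : ∀ i j, res L inf_le_left (v i • e i) = res L (inf_le_right : W i ⊓ W j ≤ W j) (v j • e j) := by
    intro i j
    rw [res_smul, res_smul, ht i j, ← mul_smul]
    congr 1
    apply toK_injective U _ (hη2 i j)
    rw [map_mul, toK_res U _ (hη i), toK_res U _ (hη j)]
    exact hvv i j
  obtain ⟨s, hs, -⟩ := existsUnique_glue (M := L) (V := ⊤) W (fun _ => le_top) (fun p _ => hcov p)
    (fun i => v i • e i) hglue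
  exact nonempty_iso_of_frame (isFrame_of_cover W (fun _ => le_top) (fun x _ => hcov x) s fun i => hs i ▸ (he i).isUnit_smul (hv i))

end Affine

end Groth.Agent.InvUfdLib
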