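import Groth.Agent.InvUfdLib.Extend

/-!
Invertible modules extend from an open across points with factorial local rings.
-/

universe u

open CategoryTheory CategoryTheory.Limits AlgebraicGeometry TopologicalSpace Opposite

namespace Groth.Agent.InvUfdLib

open Groth.Agent.AModX Groth.Agent.InvX

variable {X : Scheme.{u}}

section Push

variable {U : X.Opens} (L : U.toScheme.Modules)

lemma push_det {U₁ : X.Opens} (hU : U ≤ U₁) (W : X.Opens) :
    Function.Bijective (res ((Scheme.Modules.pushforward U.ι).obj L) (inf_le_left : W ⊓ U₁ ≤ W)) := by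
  have he : U.ι ⁻¹ᵁ (W ⊓ U₁) = U.ι ⁻¹ᵁ W := by
    ext x
    exact ⟨fun h => h.1, fun h => ⟨h, hU x.2⟩⟩
  refine ⟨fun a b h => ?_, fun b => ⟨res L he.ge b, ?_⟩⟩
  · have h' : res L (U.ι.preimage_mono inf_le_left) a = res L (U.ι.preimage_mono inf_le_left) b := h
    have := congrArg (res L he.ge) h'
    rwa [res_res, res_res, res_self, res_self] at this
  · show res L (U.ι.preimage_mono inf_le_left) (res L he.ge b) = b
    rw [res_res, res_self]

lemma subsingleton_push {W : X.Opens} (h : Disjoint (W : Set X) U) :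
    Subsingleton Γ((Scheme.Modules.pushforward U.ι).obj L, W) := by
  refine ⟨fun a b => ?_⟩
  refine eq_of_locally (M := L) (V := U.ι ⁻¹ᵁ W) a b fun p hp => absurd p.2 ?_
  exact Set.disjoint_left.1 h hp

lemma exists_push_frame (hL : PicF.IsInvertible L) {y : X} (hy : y ∈ U) :
    ∃ W : X.Opens, y ∈ W ∧ W ≤ U ∧ ∃ e : Γ((Scheme.Modules.pushforward U.ι).obj L, W), IsFrame e := by
  obtain ⟨W₀, hyW, e, he⟩ := exists_frame hL ⟨y, hy⟩
  have hle : U.ι ⁻¹ᵁ (U.ι ''ᵁ W₀) ≤ W₀ := (U.ι.preimage_image_eq W₀).le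
  have hWU : U.ι ''ᵁ W₀ ≤ U := (U.ι.image_le_opensRange W₀).trans U.opensRange_ι.le
  refine ⟨U.ι ''ᵁ W₀, ⟨⟨y, hy⟩, hyW, rfl⟩, hWU, res L hle e, fun W hW => ?_⟩
  have hW' : U.ι ⁻¹ᵁ W ≤ W₀ := (U.ι.preimage_mono hW).trans hle
  have hiso : IsIso (U.ι.app W) := U.ι.isIso_app W ((hW.trans hWU).trans U.opensRange_ι.ge)
  have key : (fun r : Γ(X, W) => r • res ((Scheme.Modules.pushforward U.ι).obj L) hW (res L hle e)) =
      (fun r : Γ(U.toScheme, U.ι ⁻¹ᵁ W) => r • res L hW' e) ∘ (U.ι.app W) := by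
    funext r
    show (U.ι.app W) r • res L (U.ι.preimage_mono hW) (res L hle e) = _
    rw [res_res]
    rfl
  have hb := (he _ hW').comp (ConcreteCategory.bijective_of_isIso (U.ι.app W))
  exact (congrArg Function.Bijective key).mpr hb

end Push

section Biprod

variable {A B : X.Modules}

lemma biprod_app_eq (W : X.Opens) (x : Γ(A ⊞ B, W)) :
    x = (biprod.inl : A ⟶ A ⊞ B).app W ((biprod.fst : A ⊞ B ⟶ A).app W x) +
      (biprod.inr : B ⟶ A ⊞ B).app W ((biprod.snd : A ⊞ B ⟶ B).app W x) := by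
  have h : (biprod.fst ≫ biprod.inl + biprod.snd ≫ biprod.inr : A ⊞ B ⟶ A ⊞ B).app W x = x := by
    rw [biprod.total]; rfl
  exact h.symm

lemma biprod_ext (W : X.Opens) {x y : Γ(A ⊞ B, W)}
    (h1 : (biprod.fst : A ⊞ B ⟶ A).app W x = (biprod.fst : A ⊞ B ⟶ A).app W y)
    (h2 : (biprod.snd : A ⊞ B ⟶ B).app W x = (biprod.snd : A ⊞ B ⟶ B).app W y) : x = y := by
  rw [biprod_app_eq W x, biprod_app_eq W y, h1, h2]

lemma fst_bijective (W : X.Opens) [Subsingleton Γ(B, W)] :
    Function.Bijective ((biprod.fst : A ⊞ B ⟶ A).app W) :=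
  ⟨fun _ _ h => biprod_ext W h (Subsingleton.elim _ _), fun a => ⟨(biprod.inl : A ⟶ A ⊞ B).app W a, by
    show ((biprod.inl : A ⟶ A ⊞ B) ≫ biprod.fst).app W a = a
    rw [biprod.inl_fst]; rfl⟩⟩

lemma snd_bijective (W : X.Opens) [Subsingleton Γ(A, W)] :
    Function.Bijective ((biprod.snd : A ⊞ B ⟶ B).app W) :=
  ⟨fun _ _ h => biprod_ext W (Subsingleton.elim _ _) h, fun a => ⟨(biprod.inr : B ⟶ A ⊞ B).app W a, by
    show ((biprod.inr : B ⟶ A ⊞ B) ≫ biprod.snd).app W a = a
    rw [biprod.inr_snd]; rfl⟩⟩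

lemma biprod_det {W W' : X.Opens} (h : W' ≤ W) (hA : Function.Bijective (res A h))
    (hB : Function.Bijective (res B h)) : Function.Bijective (res (A ⊞ B) h) := by
  refine ⟨fun x y e => biprod_ext W (hA.1 ?_) (hB.1 ?_), fun z => ?_⟩
  · rw [← app_res, ← app_res, e]
  · rw [← app_res, ← app_res, e]
  obtain ⟨a, ha⟩ := hA.2 ((biprod.fst : A ⊞ B ⟶ A).app W' z)
  obtain ⟨b, hb⟩ := hB.2 ((biprod.snd : A ⊞ B ⟶ B).app W' z)
  refine ⟨(biprod.inl : A ⟶ A ⊞ B).app W a + (biprod.inr : B ⟶ A ⊞ B).app W b, ?_⟩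
  rw [map_add, ← app_res, ← app_res, ha, hb, ← biprod_app_eq]

end Biprod

theorem exists_extension_of_ufd [IsLocallyNoetherian X] (U : X.Opens) (L : U.toScheme.Modules)
    (hL : PicF.IsInvertible L) (hufd : ∀ x : X, x ∉ U → UniqueFactorizationMonoid (X.presheaf.stalk x)) :
    ∃ L' : X.Modules, PicF.IsInvertible L' ∧ Nonempty (L'.restrict U.ι ≅ L) := by
  let O : X.Opens := ⟨(closure (U : Set X))ᶜ, isClosed_closure.isOpen_compl⟩
  let A := (Scheme.Modules.pushforward U.ι).obj L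
  let B := (Scheme.Modules.pushforward O.ι).obj (Coh.structureModule O.toScheme)
  have hUO : ∀ W : X.Opens, W ≤ U → Subsingleton Γ(B, W) := fun W hW =>
    subsingleton_push _ (Set.disjoint_left.2 fun x hx hxO => hxO (subset_closure (hW hx)))
  have hOU : ∀ W : X.Opens, W ≤ O → Subsingleton Γ(A, W) := fun W hW =>
    subsingleton_push _ (Set.disjoint_left.2 fun x hx hxU => hW hx (subset_closure hxU))
  have hdense : Dense ((U ⊔ O : X.Opens) : Set X) := by
    rw [Opens.coe_sup, dense_iff_closure_eq, closure_union, Set.eq_univ_iff_forall]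
    intro x
    by_cases hx : x ∈ closure (U : Set X)
    · exact Or.inl hx
    · exact Or.inr (subset_closure hx)
  have hO : PicF.IsInvertible (Coh.structureModule O.toScheme) := fun y =>
    ⟨⊤, trivial, ⟨Scheme.Modules.restrictUnitIso _⟩⟩
  obtain ⟨N, hN, i, hi⟩ := exists_extension (P := A ⊞ B) (U := U ⊔ O) hdense
    (fun W => biprod_det _ (push_det L le_sup_left W) (push_det _ le_sup_right W))
    (fun y hy => by
      rcases Opens.mem_sup.1 hy with h | h
      · obtain ⟨W, hyW, hWU, e, he⟩ := exists_push_frame L hL h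
        have hb : ∀ V ≤ W, Function.Bijective ((biprod.fst : A ⊞ B ⟶ A).app V) := fun V hV =>
          have := hUO V (hV.trans hWU)
          fst_bijective V
        obtain ⟨x, hx⟩ := (hb W le_rfl).2 e
        exact ⟨W, hyW, hWU.trans le_sup_left, x, isFrame_of_app _ hb (hx ▸ he)⟩
      · obtain ⟨W, hyW, hWU, e, he⟩ := exists_push_frame _ hO h
        have hb : ∀ V ≤ W, Function.Bijective ((biprod.snd : A ⊞ B ⟶ B).app V) := fun V hV =>
          have := hOU V (hV.trans hWU)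
          snd_bijective V
        obtain ⟨x, hx⟩ := (hb W le_rfl).2 e
        exact ⟨W, hyW, hWU.trans le_sup_right, x, isFrame_of_app _ hb (hx ▸ he)⟩)
    (fun x hx => hufd x fun h => hx (Opens.mem_sup.2 (Or.inl h)))
    (fun x hx => by
      have := hufd x fun h => hx (Opens.mem_sup.2 (Or.inl h))
      exact { })
  refine ⟨N, hN, ?_⟩
  let ψ := (Scheme.Modules.restrictFunctor U.ι).map (i ≫ biprod.fst) ≫
    (Scheme.Modules.restrictAdjunction U.ι).counit.app L
  suffices IsIso ψ from ⟨asIso ψ⟩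
  suffices IsIso ((Scheme.Modules.restrictFunctor U.ι).map (i ≫ (biprod.fst : A ⊞ B ⟶ A))) from
    IsIso.comp_isIso' this inferInstance
  rw [Scheme.Modules.Hom.isIso_iff_isIso_app]
  intro W
  rw [ConcreteCategory.isIso_iff_bijective]
  have hW : U.ι ''ᵁ W ≤ U := (U.ι.image_le_opensRange W).trans U.opensRange_ι.le
  have := hUO _ hW
  exact (fst_bijective (U.ι ''ᵁ W)).comp (hi _ (hW.trans le_sup_left))

end Groth.Agent.InvUfdLib
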