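import Groth.Agent.InvUfdLib.Trivial

/-!
Near a point with factorial local ring, an invertible module on an open has a frame.
-/

universe u v w

open CategoryTheory AlgebraicGeometry TopologicalSpace Opposite

namespace Groth.Agent.InvUfdLib

open Groth.Agent.AModX Groth.Agent.InvX

section Descend

variable {A : Type u} [CommRing A] [IsDomain A] {B : Type w} [CommRing B] [Algebra A B]
  {K : Type v} [Field K] [Algebra A K] [Algebra B K] [IsScalarTower A B K]

omit [IsDomain A] in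
lemma Un.map_algebraMap {f : A} {x : K} (hx : Un f x) : Un (algebraMap A B f) x := by
  obtain ⟨N, r, s, hr, hs, e⟩ := hx
  refine ⟨N, algebraMap A B r, algebraMap A B s, ?_, ?_, ?_⟩
  · rw [← map_pow]; exact map_dvd _ hr
  · rw [← map_pow]; exact map_dvd _ hs
  · rw [← IsScalarTower.algebraMap_apply, ← IsScalarTower.algebraMap_apply]; exact e

lemma Un.descend (S : Submonoid A) (hS : S ≤ nonZeroDivisors A) [IsLocalization S B] {f : A} {x : K}
    (hx : Un (algebraMap A B f) x) : ∃ h ∈ S, Un (h * f) x := by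
  have hinj : Function.Injective (algebraMap A B) := IsLocalization.injective B hS
  obtain ⟨N, r, s, hr, hs, e⟩ := hx
  obtain ⟨r', hr⟩ := hr
  obtain ⟨s', hs⟩ := hs
  obtain ⟨⟨r₀, t⟩, ht⟩ := IsLocalization.surj S r
  obtain ⟨⟨r₁, t'⟩, ht'⟩ := IsLocalization.surj S r'
  obtain ⟨⟨s₀, w⟩, hw⟩ := IsLocalization.surj S s
  obtain ⟨⟨s₁, w'⟩, hw'⟩ := IsLocalization.surj S s'
  simp only at ht ht' hw hw'
  have h1 : f ^ N * (t * t') = r₀ * r₁ := hinj (by
    simp only [map_mul, map_pow, ← ht, ← ht', hr]; ring)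
  have h2 : f ^ N * (w * w') = s₀ * s₁ := hinj (by
    simp only [map_mul, map_pow, ← hw, ← hw', hs]; ring)
  refine ⟨t * t' * w * w', mul_mem (mul_mem (mul_mem t.2 t'.2) w.2) w'.2, N + 1, r₀ * w, s₀ * t, ?_, ?_, ?_⟩
  · refine dvd_trans (b := f ^ N * (t * t') * (w * w')) ⟨r₁ * w', ?_⟩ ?_
    · rw [h1]; ring
    exact ⟨(↑t * ↑t' * ↑w * ↑w') ^ N * f, by ring⟩
  · refine dvd_trans (b := f ^ N * (w * w') * (t * t')) ⟨s₁ * t', ?_⟩ ?_
    · rw [h2]; ring
    exact ⟨(↑t * ↑t' * ↑w * ↑w') ^ N * f, by ring⟩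
  · rw [IsScalarTower.algebraMap_apply A B K (s₀ * t), IsScalarTower.algebraMap_apply A B K (r₀ * w),
      map_mul (algebraMap A B), map_mul (algebraMap A B), ← ht, ← hw]
    simp only [map_mul]
    rw [← e]
    ring

end Descend

section Gen

variable {X : Scheme.{u}} {M : X.Modules}

lemma germ_resR {V V' : X.Opens} (h : V' ≤ V) {x : X} (hx : x ∈ V') (r : Γ(X, V)) :
    X.presheaf.germ V' x hx (resR h r) = X.presheaf.germ V x (h hx) r :=
  X.presheaf.germ_res_apply (homOfLE h) x hx r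

/-- Two frames differ by a unit. -/
lemma exists_unit_of_frames {W : X.Opens} {e e' : Γ(M, W)} (he : IsFrame e) (he' : IsFrame e') :
    ∃ r : Γ(X, W), IsUnit r ∧ e = r • e' := by
  obtain ⟨r, hr⟩ := he'.exists_coord le_rfl e
  obtain ⟨r', hr'⟩ := he.exists_coord le_rfl e'
  simp only [res_self] at hr hr'
  refine ⟨r, IsUnit.of_mul_eq_one r' (he.coord_unique (le_refl W) ?_), hr⟩
  simp only [res_self, one_smul]
  rw [mul_smul, ← hr', ← hr]

end Gen

variable {R : CommRingCat.{u}} [IsDomain R]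

theorem exists_frame_nhd [IsNoetherianRing R] (M : (Spec R).Modules) (U : (Spec R).Opens)
    (hM : ∀ x ∈ U, ∃ W : (Spec R).Opens, x ∈ W ∧ ∃ e : Γ(M, W), IsFrame e) (p : Spec R)
    [UniqueFactorizationMonoid ((Spec R).presheaf.stalk p)] :
    ∃ g : R, g ∉ p.asIdeal ∧ ∃ m : Γ(M, (PrimeSpectrum.basicOpen g : (Spec R).Opens) ⊓ U), IsFrame m := by
  classical
  let K : Type u := (Spec R).functionField
  let B : Type u := (Spec R).presheaf.stalk p
  let _ : Algebra R B := (StructureSheaf.toStalk R p).hom.toAlgebra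
  have : IsScalarTower R B K := IsScalarTower.of_algebraMap_eq fun r => by
    show algebraMap R (Spec R).functionField r =
      (Spec R).presheaf.stalkSpecializes ((genericPoint_spec (Spec R)).specializes trivial) (StructureSheaf.toStalk R p r)
    rw [← StructureSheaf.algebraMap_germ_apply ⊤ p trivial r]
    erw [TopCat.Presheaf.germ_stalkSpecializes_apply]
    exact (StructureSheaf.algebraMap_germ_apply ⊤ _ trivial r).symm
  have : IsLocalization.AtPrime B p.asIdeal := StructureSheaf.IsLocalization.to_stalk R p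
  have hloc : ∀ x : U, ∃ f : R, f ≠ 0 ∧ x.1 ∈ (PrimeSpectrum.basicOpen f : (Spec R).Opens) ∧
      (PrimeSpectrum.basicOpen f : (Spec R).Opens) ≤ U ∧
      ∃ e : Γ(M, (PrimeSpectrum.basicOpen f : (Spec R).Opens)), IsFrame e := by
    intro x
    obtain ⟨W, hxW, e, he⟩ := hM x.1 x.2
    obtain ⟨_, ⟨_, ⟨f, rfl⟩, rfl⟩, hxf, hfW⟩ := PrimeSpectrum.isBasis_basic_opens.exists_subset_of_mem_open
      (show x.1 ∈ (W ⊓ U : (Spec R).Opens).1 from ⟨hxW, x.2⟩) (W ⊓ U : (Spec R).Opens).isOpen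
    exact ⟨f, fun h => by subst h; simp at hxf, hxf, fun y hy => (hfW hy).2,
      res M (fun y hy => (hfW hy).1) e, he.res _⟩
  choose F hF0 hxF hFU e he using hloc
  let D : R → (Spec R).Opens := fun f => PrimeSpectrum.basicOpen f
  obtain ⟨T, hT⟩ := (NoetherianSpace.isCompact (U : Set (Spec R))).elim_finite_subcover
    (fun x : U => (D (F x) : Set (Spec R)))
    (fun x => (D (F x)).isOpen) (fun x hx => Set.mem_iUnion.2 ⟨⟨x, hx⟩, hxF ⟨x, hx⟩⟩)
  have hη : ∀ f : R, f ≠ 0 → genericPoint (Spec R) ∈ D f := fun f hf => generic_mem_basicOpen hf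
  have ht := fun i j : T => (he j.1).exists_coord (inf_le_right : D (F i.1) ⊓ D (F j.1) ≤ D (F j.1))
    (res M inf_le_left (e i.1))
  choose t ht using ht
  have hη2 : ∀ i j : T, genericPoint (Spec R) ∈ D (F i.1) ⊓ D (F j.1) := fun i j =>
    ⟨hη _ (hF0 _), hη _ (hF0 _)⟩
  let τ : T → T → K := fun i j => (Spec R).presheaf.germ _ _ (hη2 i j) (t i j)
  have hτ : ∀ i j k, τ i k = τ i j * τ j k := by
    intro i j k
    let V := D (F i.1) ⊓ D (F j.1) ⊓ D (F k.1)
    have hij : V ≤ D (F i.1) ⊓ D (F j.1) := inf_le_left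
    have hik : V ≤ D (F i.1) ⊓ D (F k.1) := inf_le_inf_right _ inf_le_left
    have hjk : V ≤ D (F j.1) ⊓ D (F k.1) := inf_le_inf_right _ inf_le_right
    have hV : genericPoint (Spec R) ∈ V := ⟨hη2 i j, hη _ (hF0 _)⟩
    have h : resR hik (t i k) = resR hij (t i j) * resR hjk (t j k) := by
      refine (he k.1).coord_unique (inf_le_right : V ≤ D (F k.1)) ?_
      have h1 := congrArg (res M hik) (ht i k)
      have h2 := congrArg (res M hij) (ht i j)
      have h3 := congrArg (res M hjk) (ht j k)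
      simp only [res_smul, res_res] at h1 h2 h3
      rw [← h1, mul_smul, ← h3, ← h2]
    have := congrArg ((Spec R).presheaf.germ V (genericPoint (Spec R)) hV) h
    rw [map_mul] at this
    rw [germ_resR, germ_resR, germ_resR] at this
    exact this
  have hun : ∀ i j, Un (F i.1 * F j.1) (τ i j) := by
    intro i j
    obtain ⟨r, hr, hre⟩ := exists_unit_of_frames ((he i.1).res (inf_le_left : D (F i.1) ⊓ D (F j.1) ≤ D (F i.1)))
      ((he j.1).res inf_le_right)
    obtain rfl : r = t i j := (he j.1).coord_unique inf_le_right (hre.symm.trans (ht i j))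
    have hle : D (F i.1 * F j.1) ≤ D (F i.1) ⊓ D (F j.1) := (PrimeSpectrum.basicOpen_mul _ _).le
    have := un_of_isUnit (mul_ne_zero (hF0 i.1) (hF0 j.1)) (hr.map ((Spec R).presheaf.map (homOfLE hle).op).hom)
    erw [(Spec R).presheaf.germ_res_apply] at this
    exact this
  have hτ0 : ∀ i j, τ i j ≠ 0 := fun i j => (hun i j).ne_zero (mul_ne_zero (hF0 _) (hF0 _))
  obtain ⟨g, hg, v, hv, hvv⟩ : ∃ g : R, g ∉ p.asIdeal ∧ ∃ v : ∀ i : T, Γ(Spec R, D (g * F i.1)),
      (∀ i, IsUnit (v i)) ∧ ∀ i j : T,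
        ∀ (hi : genericPoint (Spec R) ∈ D (g * F i.1)) (hj : genericPoint (Spec R) ∈ D (g * F j.1)),
          (Spec R).presheaf.germ _ _ hi (v i) * τ i j = (Spec R).presheaf.germ _ _ hj (v j) := by
    by_cases hI : IsEmpty T
    · exact ⟨1, (Ideal.ne_top_iff_one _).1 p.isPrime.ne_top, fun i => isEmptyElim i, fun i => isEmptyElim i,
        fun i => isEmptyElim i⟩
    obtain ⟨i₀⟩ := not_isEmpty_iff.1 hI
    have hinj : Function.Injective (algebraMap R B) :=
      IsLocalization.injective B p.asIdeal.primeCompl_le_nonZeroDivisors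
    obtain ⟨c, hc, hc'⟩ := exists_coboundary (R := B) (K := K) (fun i : T => algebraMap R B (F i.1))
      (fun i => fun h => hF0 i.1 (hinj (h.trans (map_zero _).symm))) (algebraMap R B (F i₀.1))
      (fun h => hF0 i₀.1 (hinj (h.trans (map_zero _).symm)))
      (fun i => τ i i₀) (fun i j => by
        have := (hun i j).map_algebraMap (B := B)
        rwa [map_mul, ← mul_div_cancel_right₀ (τ i j) (hτ0 j i₀), ← hτ i j i₀] at this) fun i => by
      have := (hun i i₀).map_algebraMap (B := B)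
      rwa [map_mul] at this
    choose h hh hun' using fun i : T => (hc' i).descend p.asIdeal.primeCompl
      p.asIdeal.primeCompl_le_nonZeroDivisors
    let g := ∏ i, h i
    have hg : g ∉ p.asIdeal := (p.asIdeal.primeCompl.prod_mem fun i _ => hh i : g ∈ p.asIdeal.primeCompl)
    have hg0 : ∀ i : T, g * F i.1 ≠ 0 := fun i =>
      mul_ne_zero (fun h0 => hg (h0 ▸ Ideal.zero_mem _)) (hF0 _)
    have hd : ∀ i : T, Un (g * F i.1) (τ i i₀ / c) := fun i =>
      (hun' i).mono' (mul_dvd_mul_right (Finset.dvd_prod_of_mem _ (Finset.mem_univ i)) _)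
    choose v hv hvK using fun i : T => exists_isUnit_of_un (hg0 i) ((hd i).inv (hg0 i))
    refine ⟨g, hg, v, hv, fun i j hi hj => ?_⟩
    erw [hvK i, hvK j]
    rw [hτ i j i₀]
    have := hτ0 i j
    have := hτ0 j i₀
    field_simp
  refine ⟨g, hg, ?_⟩
  have hgF : ∀ i : T, D (g * F i.1) ≤ D (F i.1) := fun i => PrimeSpectrum.basicOpen_mul_le_right _ _
  have hgF' : ∀ i : T, D (g * F i.1) ≤ D g ⊓ U := fun i =>
    le_inf (PrimeSpectrum.basicOpen_mul_le_left _ _) ((hgF i).trans (hFU i.1))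
  have hg0 : g ≠ 0 := fun h0 => hg (h0 ▸ Ideal.zero_mem _)
  have hη3 : ∀ i : T, genericPoint (Spec R) ∈ D (g * F i.1) := fun i => hη _ (mul_ne_zero hg0 (hF0 _))
  have hcov : ∀ x ∈ D g ⊓ U, ∃ i : T, x ∈ D (g * F i.1) := fun x hx => by
    obtain ⟨i, hi, hxi⟩ := Set.mem_iUnion₂.1 (hT hx.2)
    exact ⟨⟨i, hi⟩, (PrimeSpectrum.basicOpen_mul _ _).ge ⟨hx.1, hxi⟩⟩
  have hglue : ∀ i j : T, res M inf_le_left (v i • res M (hgF i) (e i.1)) =
      res M (inf_le_right : D (g * F i.1) ⊓ D (g * F j.1) ≤ D (g * F j.1)) (v j • res M (hgF j) (e j.1)) := by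
    intro i j
    have hle : D (g * F i.1) ⊓ D (g * F j.1) ≤ D (F i.1) ⊓ D (F j.1) := inf_le_inf (hgF i) (hgF j)
    have h1 := congrArg (res M hle) (ht i j)
    simp only [res_smul, res_res] at h1 ⊢
    rw [h1, ← mul_smul]
    congr 1
    apply germ_injective_of_isIntegral (Spec R) (genericPoint (Spec R))
      (show genericPoint (Spec R) ∈ D (g * F i.1) ⊓ D (g * F j.1) from ⟨hη3 i, hη3 j⟩)
    rw [map_mul]
    rw [germ_resR, germ_resR, germ_resR]
    exact hvv i j (hη3 i) (hη3 j)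
  obtain ⟨m, hm, -⟩ := existsUnique_glue (M := M) (V := D g ⊓ U) (fun i : T => D (g * F i.1)) hgF'
    hcov (fun i => v i • res M (hgF i) (e i.1)) hglue
  exact ⟨m, isFrame_of_cover _ hgF' hcov m fun i => hm i ▸ ((he i.1).res (hgF i)).isUnit_smul (hv i)⟩

end Groth.Agent.InvUfdLib
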