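import Groth.Agent.InvUfdLib.Local
import Groth.Agent.InvUfdLib.Semilocal
import Groth.Agent.QCoh.Submod

/-!
Extension of invertible modules across points with factorial local rings.
-/

universe u

open CategoryTheory CategoryTheory.Limits AlgebraicGeometry TopologicalSpace Opposite

namespace Groth.Agent.InvUfdLib

open Groth.Agent.AModX Groth.Agent.InvX

variable {X : Scheme.{u}}

section Transfer

variable {Y : Scheme.{u}} (j : Y ⟶ X) [IsOpenImmersion j] {M : X.Modules}

lemma restrict_smul_def {W : Y.Opens} (r : Γ(Y, W)) (m : Γ(M.restrict j, W)) :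
    r • m = ((j.appIso W).inv r) • (show Γ(M, j ''ᵁ W) from m) := rfl

lemma isFrame_restrict {W : Y.Opens} {e : Γ(M, j ''ᵁ W)} (he : IsFrame e) :
    IsFrame (M := M.restrict j) (show Γ(M.restrict j, W) from e) := fun V hV =>
  (he (j ''ᵁ V) (j.image_mono hV)).comp (ConcreteCategory.bijective_of_isIso (j.appIso V).inv)

lemma isFrame_of_restrict {W : Y.Opens} {e : Γ(M.restrict j, W)} (he : IsFrame e) :
    IsFrame (M := M) (U := j ''ᵁ W) e := fun V hV => by
  obtain ⟨V', rfl⟩ : ∃ V', j ''ᵁ V' = V := ⟨j ⁻¹ᵁ V, by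
    rw [Scheme.Hom.image_preimage_eq_opensRange_inf]
    exact inf_eq_right.2 (hV.trans (j.image_le_opensRange W))⟩
  have hV' : V' ≤ W := fun y hy => by
    obtain ⟨z, hz, hzy⟩ := hV ⟨y, hy, rfl⟩
    exact j.isOpenEmbedding.injective hzy ▸ hz
  exact (Function.Bijective.of_comp_iff _ (ConcreteCategory.bijective_of_isIso (j.appIso V').inv)).1 (he V' hV')

/-- Frames are reflected by morphisms bijective on small opens. -/
lemma isFrame_of_app {N : X.Modules} (φ : M ⟶ N) {W₀ : X.Opens}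
    (hφ : ∀ W ≤ W₀, Function.Bijective (φ.app W)) {x : Γ(M, W₀)} (he : IsFrame (φ.app W₀ x)) :
    IsFrame x := fun W hW => by
  have h : (φ.app W) ∘ (fun r : Γ(X, W) => r • res M hW x) = fun r => r • res N hW (φ.app W₀ x) := by
    funext r
    show φ.app W (r • res M hW x) = _
    rw [Scheme.Modules.Hom.app_smul, app_res]
  exact (Function.Bijective.of_comp_iff' (hφ W hW) _).1 (h ▸ he W hW)

end Transfer

section Integral

lemma isIntegral_of_le {V V' : X.Opens} [IsIntegral V.toScheme] (h : V' ≤ V) {x : X} (hx : x ∈ V') :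
    IsIntegral V'.toScheme :=
  have : Nonempty V'.toScheme := ⟨⟨x, hx⟩⟩
  isIntegral_of_isOpenImmersion (X.homOfLE h)

lemma resR_injective_of_integral {V W W' : X.Opens} [IsIntegral V.toScheme] (hV : W ≤ V) (h : W' ≤ W)
    {x : X} (hx : x ∈ W') : Function.Injective (resR h : Γ(X, W) → Γ(X, W')) := by
  have : IsIntegral W.toScheme := isIntegral_of_le hV (h hx)
  rw [injective_iff_map_eq_zero]
  intro r hr
  have hW : W.ι ''ᵁ ⊤ = W := W.ι_image_top
  have key : (W.toScheme.presheaf.germ ⊤ ⟨x, h hx⟩ trivial)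
      (show Γ(W.toScheme, ⊤) from resR hW.le r) = 0 := by
    have hle : W.ι ''ᵁ (W.ι ⁻¹ᵁ W') ≤ W' := W.ι.image_preimage_le W'
    rw [← W.toScheme.presheaf.germ_res_apply (homOfLE (le_top : W.ι ⁻¹ᵁ W' ≤ ⊤)) ⟨x, h hx⟩ hx]
    have : W.toScheme.presheaf.map (homOfLE (le_top : W.ι ⁻¹ᵁ W' ≤ ⊤)).op
        (show Γ(W.toScheme, ⊤) from resR hW.le r) = (0 : Γ(W.toScheme, W.ι ⁻¹ᵁ W')) := by
      show resR (W.ι.image_mono le_top) (resR hW.le r) = 0
      rw [resR_resR, ← resR_resR h hle r, hr, map_zero]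
    exact (congrArg _ this).trans (map_zero (W.toScheme.presheaf.germ _ _ hx).hom)
  have h0 := germ_injective_of_isIntegral W.toScheme (U := ⊤) ⟨x, h hx⟩ trivial (key.trans (map_zero _).symm)
  have := congrArg (resR hW.ge) (show resR hW.le r = 0 from h0)
  rwa [resR_resR, map_zero, resR_self] at this

lemma exists_domain_nhd [IsLocallyNoetherian X] (x : X) [IsDomain (X.presheaf.stalk x)] :
    ∃ V : X.Opens, IsAffineOpen V ∧ x ∈ V ∧ IsDomain Γ(X, V) := by
  obtain ⟨_, ⟨V, hV, rfl⟩, hxV, -⟩ :=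
    X.isBasis_affineOpens.exists_subset_of_mem_open (Set.mem_univ x) isOpen_univ
  have : IsNoetherianRing Γ(X, V) := IsLocallyNoetherian.component_noetherian ⟨V, hV⟩
  let _ := X.presheaf.algebra_section_stalk (⟨x, hxV⟩ : V)
  have := hV.isLocalization_stalk ⟨x, hxV⟩
  let P := (hV.primeIdealOf ⟨x, hxV⟩).asIdeal
  obtain ⟨s, hs⟩ : (RingHom.ker (X.presheaf.germ V x hxV).hom).FG := IsNoetherian.noetherian _
  have hk : ∀ y ∈ s, ∃ m : P.primeCompl, (m : Γ(X, V)) * y = 0 := fun y hy =>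
    (IsLocalization.map_eq_zero_iff P.primeCompl (X.presheaf.stalk x) y).1
      (show y ∈ RingHom.ker (X.presheaf.germ V x hxV).hom from hs ▸ Submodule.subset_span hy)
  choose! m hm using hk
  let g : Γ(X, V) := ((∏ y ∈ s, m y : P.primeCompl) : Γ(X, V))
  have hker : ∀ a : Γ(X, V), X.presheaf.germ V x hxV a = 0 → g * a = 0 := by
    intro a ha
    have hspan : a ∈ Ideal.span (s : Set Γ(X, V)) := by rw [hs]; exact ha
    have : a ∈ Submodule.span Γ(X, V) (s : Set Γ(X, V)) := hspan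
    clear ha hspan
    induction this using Submodule.span_induction with
    | mem y hy =>
      obtain ⟨c, hc⟩ := Finset.dvd_prod_of_mem m (Finset.mem_coe.1 hy)
      show ((∏ y ∈ s, m y : P.primeCompl) : Γ(X, V)) * y = 0
      rw [hc, Submonoid.coe_mul, mul_right_comm, hm y hy, zero_mul]
    | zero => exact mul_zero _
    | add y z _ _ hy hz => rw [mul_add, hy, hz, add_zero]
    | smul r y _ hy => rw [smul_eq_mul, mul_left_comm, hy, mul_zero]
  have hxg : x ∈ X.basicOpen g :=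
    (Scheme.mem_basicOpen X g x hxV).2 (IsLocalization.map_units (X.presheaf.stalk x) (∏ y ∈ s, m y : P.primeCompl))
  refine ⟨X.basicOpen g, hV.basicOpen g, hxg, ?_⟩
  have := hV.isLocalization_basicOpen g
  have hinj : Function.Injective (X.presheaf.germ (X.basicOpen g) x hxg).hom := by
    rw [injective_iff_map_eq_zero]
    intro a ha
    obtain ⟨⟨a₀, _, n, rfl⟩, h⟩ := IsLocalization.surj (Submonoid.powers g) a
    simp only at h
    have h0 : g * a₀ = 0 := hker a₀ (by
      rw [← X.presheaf.germ_res_apply (homOfLE (X.basicOpen_le g)) x hxg a₀]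
      show (X.presheaf.germ (X.basicOpen g) x hxg).hom (algebraMap Γ(X, V) Γ(X, X.basicOpen g) a₀) = 0
      rw [← h, map_mul, ha, zero_mul])
    have hu : IsUnit (algebraMap Γ(X, V) Γ(X, X.basicOpen g) g) := IsLocalization.Away.algebraMap_isUnit g
    have h1 : algebraMap Γ(X, V) Γ(X, X.basicOpen g) a₀ = 0 := by
      rw [← hu.mul_right_eq_zero, ← map_mul, h0, map_zero]
    rw [h1, map_pow] at h
    exact (hu.pow n).mul_left_eq_zero.1 h
  exact hinj.isDomain _

/-- A frame near a point with factorial local ring, on a neighbourhood meeting `U`. -/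
theorem exists_frame_at [IsLocallyNoetherian X] (M : X.Modules) (U : X.Opens)
    (hM : ∀ y ∈ U, ∃ W : X.Opens, y ∈ W ∧ ∃ e : Γ(M, W), IsFrame e) (x : X)
    [IsDomain (X.presheaf.stalk x)] [UniqueFactorizationMonoid (X.presheaf.stalk x)] :
    ∃ (V : X.Opens), x ∈ V ∧ IsIntegral V.toScheme ∧ ∃ m : Γ(M, V ⊓ U), IsFrame m := by
  obtain ⟨V₀, hV₀, hx, hdom⟩ := exists_domain_nhd x
  have : IsNoetherianRing Γ(X, V₀) := IsLocallyNoetherian.component_noetherian ⟨V₀, hV₀⟩
  let j := hV₀.fromSpec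
  obtain ⟨p, rfl⟩ : ∃ p, j p = x := ⟨_, hV₀.fromSpec_primeIdealOf ⟨x, hx⟩⟩
  have : UniqueFactorizationMonoid ((Spec Γ(X, V₀)).presheaf.stalk p) :=
    (asIso (j.stalkMap p)).commRingCatIsoToRingEquiv.toMulEquiv.uniqueFactorizationMonoid inferInstance
  obtain ⟨g, hg, m, hm⟩ := exists_frame_nhd (M.restrict j) (j ⁻¹ᵁ U) (fun y hy => by
    obtain ⟨W, hyW, e, he⟩ := hM (j y) hy
    exact ⟨j ⁻¹ᵁ W, hyW, _, isFrame_restrict j (he.res (j.image_preimage_le W))⟩) p
  refine ⟨j ''ᵁ PrimeSpectrum.basicOpen g, ⟨p, hg, rfl⟩, ?_, ?_⟩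
  · have : IsIntegral V₀.toScheme := by
      have : IsAffine V₀.toScheme := hV₀
      have : Nonempty V₀.toScheme := ⟨⟨_, hx⟩⟩
      have : IsDomain Γ(V₀.toScheme, ⊤) := V₀.topIso.commRingCatIsoToRingEquiv.toMulEquiv.isDomain _
      exact isIntegral_of_isAffine_of_isDomain _
    exact isIntegral_of_le ((j.image_le_opensRange _).trans hV₀.opensRange_fromSpec.le) ⟨p, hg, rfl⟩
  · have he : j ''ᵁ PrimeSpectrum.basicOpen g ⊓ U ≤
        j ''ᵁ ((PrimeSpectrum.basicOpen g : (Spec Γ(X, V₀)).Opens) ⊓ j ⁻¹ᵁ U) := by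
      rintro _ ⟨⟨q, hq, rfl⟩, hqU⟩
      exact ⟨q, ⟨hq, hqU⟩, rfl⟩
    exact ⟨_, (isFrame_of_restrict j hm).res he⟩

end Integral

section Extend

variable (P : X.Modules) (U : X.Opens)

/-- A local trivialization of an extension. -/
structure Chart where
  V : X.Opens
  s : Γ(P, V)
  inj : ∀ (W : X.Opens) (h : W ≤ V), Function.Injective (fun r : Γ(X, W) => r • res P h s)
  surj : ∀ (W : X.Opens) (h : W ≤ V), W ≤ U → Function.Surjective (fun r : Γ(X, W) => r • res P h s)

variable {P U}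

/-- Two local trivializations differ by a unit. -/
def Compat (c d : Chart P U) : Prop :=
  ∀ (W : X.Opens) (hc : W ≤ c.V) (hd : W ≤ d.V), ∃ r : Γ(X, W), res P hc c.s = r • res P hd d.s

/-- A pairwise compatible family. -/
def IsAtlas (S : Set (Chart P U)) : Prop := ∀ c ∈ S, ∀ d ∈ S, Compat c d

/-- The module defined by an atlas. -/
def atlasMod (S : Set (Chart P U)) : QCoh.SubMod P where
  mem W :=
    { carrier := {t | ∀ c ∈ S, ∀ p ∈ W, p ∈ c.V → ∃ (W' : X.Opens) (i : W' ≤ W) (i' : W' ≤ c.V),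
        p ∈ W' ∧ ∃ r : Γ(X, W'), res P i t = r • res P i' c.s}
      add_mem' := fun {a b} ha hb c hc p hp hpc => by
        obtain ⟨W₁, i₁, j₁, hp₁, r₁, h₁⟩ := ha c hc p hp hpc
        obtain ⟨W₂, i₂, j₂, hp₂, r₂, h₂⟩ := hb c hc p hp hpc
        refine ⟨W₁ ⊓ W₂, inf_le_left.trans i₁, inf_le_left.trans j₁, ⟨hp₁, hp₂⟩,
          resR inf_le_left r₁ + resR inf_le_right r₂, ?_⟩
        have e₁ := congrArg (res P (inf_le_left : W₁ ⊓ W₂ ≤ W₁)) h₁
        have e₂ := congrArg (res P (inf_le_right : W₁ ⊓ W₂ ≤ W₂)) h₂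
        simp only [res_smul, res_res] at e₁ e₂
        rw [map_add, add_smul, e₁, e₂]
      zero_mem' := fun c hc p hp hpc =>
        ⟨W ⊓ c.V, inf_le_left, inf_le_right, ⟨hp, hpc⟩, 0, by rw [map_zero, zero_smul]⟩
      smul_mem' := fun a t ht c hc p hp hpc => by
        obtain ⟨W', i, j, hp', r, h⟩ := ht c hc p hp hpc
        exact ⟨W', i, j, hp', resR i a * r, by rw [res_smul, h, mul_smul]⟩ }
  map_mem {W W'} i {t} ht := fun c hc p hp hpc => by
    obtain ⟨W₁, i₁, j₁, hp₁, r, h⟩ := ht c hc p (i hp) hpc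
    refine ⟨W₁ ⊓ W', inf_le_right, inf_le_left.trans j₁, ⟨hp₁, hp⟩, resR inf_le_left r, ?_⟩
    have e := congrArg (res P (inf_le_left : W₁ ⊓ W' ≤ W₁)) h
    simp only [res_smul, res_res] at e
    exact (res_res (M := P) i inf_le_right t).trans e
  of_locally W t ht := fun c hc p hp hpc => by
    obtain ⟨V, i, hpV, h⟩ := ht p hp
    obtain ⟨W', i', j, hp', r, hr⟩ := h c hc p hpV hpc
    exact ⟨W', i'.trans i, j, hp', r, (res_res (M := P) i i' t).symm.trans hr⟩

variable {S : Set (Chart P U)}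

lemma chart_mem (hS : IsAtlas S) {c : Chart P U} (hc : c ∈ S) : c.s ∈ (atlasMod S).mem c.V :=
  fun d hd p hp hpd => by
    obtain ⟨r, hr⟩ := hS c hc d hd (c.V ⊓ d.V) inf_le_left inf_le_right
    exact ⟨c.V ⊓ d.V, inf_le_left, inf_le_right, ⟨hp, hpd⟩, r, hr⟩

lemma exists_chart_frame (hS : IsAtlas S) {c : Chart P U} (hc : c ∈ S) :
    ∃ e : Γ((atlasMod S).toModules, c.V), IsFrame e ∧ (atlasMod S).ι.app c.V e = c.s := by
  obtain ⟨e, he⟩ := (atlasMod S).exists_app_eq (chart_mem hS hc)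
  refine ⟨e, fun W hW => ⟨fun r r' h => c.inj W hW ?_, fun t => ?_⟩, he⟩
  · have := congrArg ((atlasMod S).ι.app W) h
    simp only [Scheme.Modules.Hom.app_smul, app_res, he] at this
    exact this
  · have hloc := fun p : (W : Set X) =>
      (atlasMod S).ι_app_mem W t c hc p.1 p.2 (hW p.2)
    choose W' i j hp r hr using hloc
    obtain ⟨r₀, hr₀, -⟩ := existsUnique_glue (M := Coh.structureModule X) (V := W) W' i
      (fun p hp' => ⟨⟨p, hp'⟩, hp ⟨p, hp'⟩⟩) r fun a b => by
        show resR inf_le_left (r a) = resR inf_le_right (r b)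
        refine c.inj (W' a ⊓ W' b) (inf_le_left.trans (j a)) ?_
        have h1 := congrArg (res P (inf_le_left : W' a ⊓ W' b ≤ W' a)) (hr a)
        have h2 := congrArg (res P (inf_le_right : W' a ⊓ W' b ≤ W' b)) (hr b)
        simp only [res_smul, res_res] at h1 h2 ⊢
        exact h1.symm.trans h2
    refine ⟨(show Γ(X, W) from r₀), (atlasMod S).ι_app_injective W (eq_of_locally _ _ fun p hpW => ?_)⟩
    refine ⟨W' ⟨p, hpW⟩, i ⟨p, hpW⟩, hp ⟨p, hpW⟩, ?_⟩
    rw [Scheme.Modules.Hom.app_smul, app_res, he, res_smul, res_res, hr ⟨p, hpW⟩]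
    exact congrArg (· • _) (hr₀ ⟨p, hpW⟩)

lemma atlasMod_bijective (W : X.Opens) (hW : W ≤ U) :
    Function.Bijective ((atlasMod S).ι.app W) := by
  refine ⟨(atlasMod S).ι_app_injective W, fun t => (atlasMod S).exists_app_eq fun c hc p hp hpc => ?_⟩
  obtain ⟨r, hr⟩ := c.surj (W ⊓ c.V) inf_le_right (inf_le_left.trans hW) (res P inf_le_left t)
  exact ⟨W ⊓ c.V, inf_le_left, inf_le_right, ⟨hp, hpc⟩, r, hr.symm⟩

theorem exists_extension [IsLocallyNoetherian X] (hdense : Dense (U : Set X))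
    (hdet : ∀ W : X.Opens, Function.Bijective (res P (inf_le_left : W ⊓ U ≤ W)))
    (hframe : ∀ y ∈ U, ∃ W : X.Opens, y ∈ W ∧ W ≤ U ∧ ∃ e : Γ(P, W), IsFrame e)
    (hufd : ∀ x : X, x ∉ U → UniqueFactorizationMonoid (X.presheaf.stalk x))
    (hdom : ∀ x : X, x ∉ U → IsDomain (X.presheaf.stalk x)) :
    ∃ N : X.Modules, PicF.IsInvertible N ∧ ∃ i : N ⟶ P, ∀ W ≤ U, Function.Bijective (i.app W) := by
  obtain ⟨S, hS⟩ := zorn_subset {S : Set (Chart P U) | IsAtlas S} fun C hC hchain =>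
    ⟨⋃₀ C, fun c ⟨A, hA, hc⟩ d ⟨B, hB, hd⟩ => (hchain.total hA hB).elim
      (fun h => hC hB c (h hc) d hd) (fun h => hC hA c hc d (h hd)), fun A hA => Set.subset_sUnion_of_mem hA⟩
  have hSa : IsAtlas S := hS.prop
  have hU : ∀ y ∈ U, ∃ c ∈ S, y ∈ c.V := by
    intro y hy
    obtain ⟨W, hyW, hWU, e, he⟩ := hframe y hy
    let c₀ : Chart P U := ⟨W, e, fun V h => (he V h).1, fun V h _ => (he V h).2⟩
    refine ⟨c₀, ?_, hyW⟩
    have h1 : ∀ d : Chart P U, Compat c₀ d ∧ Compat d c₀ := fun d =>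
      ⟨fun V hc hd => (d.surj V hd (hc.trans hWU) _).imp fun r hr => hr.symm,
       fun V hd hc => ((he V hc).2 _).imp fun r hr => hr.symm⟩
    have : IsAtlas (insert c₀ S) := by
      rintro c (rfl | hc) d (rfl | hd)
      exacts [(h1 _).1, (h1 _).1, (h1 _).2, hSa c hc d hd]
    exact hS.2 this (Set.subset_insert _ _) (Set.mem_insert _ _)
  let N := (atlasMod S).toModules
  let U' : X.Opens := ⨆ c : S, c.1.V
  have hUU' : U ≤ U' := fun y hy => by
    obtain ⟨c, hc, hyc⟩ := hU y hy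
    exact Opens.mem_iSup.2 ⟨⟨c, hc⟩, hyc⟩
  have hNframe : ∀ y ∈ U', ∃ W : X.Opens, y ∈ W ∧ ∃ e : Γ(N, W), IsFrame e := fun y hy => by
    obtain ⟨⟨c, hc⟩, hyc⟩ := Opens.mem_iSup.1 hy
    obtain ⟨e, he, -⟩ := exists_chart_frame hSa hc
    exact ⟨c.V, hyc, e, he⟩
  have hall : ∀ x : X, x ∈ U' := by
    intro x
    by_contra hx
    have hxU : x ∉ U := fun h => hx (hUU' h)
    have := hufd x hxU
    have := hdom x hxU
    obtain ⟨V, hxV, hVint, m, hm⟩ := exists_frame_at N U' hNframe x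
    have hle : V ⊓ U ≤ V ⊓ U' := inf_le_inf_left _ hUU'
    obtain ⟨s, hs⟩ := (hdet V).2 (res P hle ((atlasMod S).ι.app _ m))
    have hbij : ∀ (W : X.Opens) (h : W ≤ V ⊓ U),
        Function.Bijective (fun r : Γ(X, W) => r • res P (h.trans inf_le_left) s) := by
      intro W h
      have e : (fun r : Γ(X, W) => r • res P (h.trans inf_le_left) s) =
          ((atlasMod S).ι.app W) ∘ fun r : Γ(X, W) => r • res N (h.trans hle) m := by
        funext r
        show _ = (atlasMod S).ι.app W (r • res N (h.trans hle) m)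
        rw [Scheme.Modules.Hom.app_smul, app_res]
        have := congrArg (res P h) hs
        rw [res_res, res_res] at this
        rw [this]
      rw [e]
      exact (atlasMod_bijective W (h.trans inf_le_right)).comp (hm W _)
    have hinj : ∀ (W : X.Opens) (h : W ≤ V), Function.Injective (fun r : Γ(X, W) => r • res P h s) := by
      intro W h r r' hr
      rcases Set.eq_empty_or_nonempty (W : Set X) with hW | ⟨z, hz⟩
      · exact eq_of_locally (M := Coh.structureModule X) r r' fun p hp =>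
          absurd (show p ∈ (W : Set X) from hp) (by rw [hW]; exact Set.notMem_empty p)
      obtain ⟨y, hyW, hyU⟩ := hdense.inter_open_nonempty _ W.isOpen ⟨z, hz⟩
      refine resR_injective_of_integral h (inf_le_left : W ⊓ U ≤ W) (x := y) ⟨hyW, hyU⟩ ?_
      refine (hbij (W ⊓ U) (inf_le_inf_right _ h)).1 ?_
      have := congrArg (res P (inf_le_left : W ⊓ U ≤ W)) hr
      simp only [res_smul, res_res] at this
      exact this
    let c₁ : Chart P U := ⟨V, s, hinj, fun W h hWU => (hbij W (le_inf h hWU)).2⟩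
    have h1 : ∀ d ∈ S, Compat c₁ d ∧ Compat d c₁ := by
      intro d hd
      obtain ⟨e, he, hes⟩ := exists_chart_frame hSa hd
      have hdU' : d.V ≤ U' := le_iSup (fun c : S => c.1.V) ⟨d, hd⟩
      have key : ∀ (W : X.Opens) (hc : W ≤ V) (hd' : W ≤ d.V),
          (atlasMod S).ι.app W (res N (le_inf hc (hd'.trans hdU')) m) = res P hc s := by
        intro W hc hd'
        apply (hdet W).1
        have := congrArg (res P (inf_le_inf_right U hc)) hs
        rw [res_res, res_res] at this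
        rw [res_res, app_res, res_res, this]
      refine ⟨fun W hc hd' => ?_, fun W hd' hc => ?_⟩
      · obtain ⟨r, hr⟩ := (he W hd').2 (res N (le_inf hc (hd'.trans hdU')) m)
        refine ⟨r, ?_⟩
        have := congrArg ((atlasMod S).ι.app W) hr
        simp only [Scheme.Modules.Hom.app_smul] at this
        rw [key W hc hd', app_res, hes] at this
        exact this.symm
      · obtain ⟨r, hr⟩ := (hm W (le_inf hc (hd'.trans hdU'))).2 (res N hd' e)
        refine ⟨r, ?_⟩
        have := congrArg ((atlasMod S).ι.app W) hr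
        simp only [Scheme.Modules.Hom.app_smul] at this
        rw [key W hc hd', app_res, hes] at this
        exact this.symm
    have h2 : Compat c₁ c₁ := fun W hc hd => ⟨1, (one_smul _ _).symm⟩
    have : IsAtlas (insert c₁ S) := by
      rintro c (rfl | hc) d (rfl | hd)
      exacts [h2, (h1 d hd).1, (h1 c hc).2, hSa c hc d hd]
    have hmem : c₁ ∈ S := hS.2 this (Set.subset_insert _ _) (Set.mem_insert _ _)
    exact hx (Opens.mem_iSup.2 ⟨⟨c₁, hmem⟩, hxV⟩)
  refine ⟨N, fun y => ?_, (atlasMod S).ι, fun W hW => atlasMod_bijective W hW⟩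
  obtain ⟨W, hyW, e, he⟩ := hNframe y (hall y)
  exact ⟨W, hyW, nonempty_iso_restrict_of_frame he⟩

end Extend

end Groth.Agent.InvUfdLib
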