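import Mathlib

/-!
Multiplicative cocycles of units on basic opens of a factorial ring are coboundaries.
-/

universe u v

namespace Groth.Agent.InvUfdLib

variable {R : Type u} [CommRing R] {K : Type v} [Field K] [Algebra R K]

/-- `x` is a unit of `R[1/f]`, seen in the field `K`. -/
def Un (f : R) (x : K) : Prop :=
  ∃ (N : ℕ) (r s : R), r ∣ f ^ N ∧ s ∣ f ^ N ∧ x * algebraMap R K s = algebraMap R K r

lemma Un.mul {f : R} {x y : K} (hx : Un f x) (hy : Un f y) : Un f (x * y) := by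
  obtain ⟨N, r, s, hr, hs, h⟩ := hx
  obtain ⟨M, r', s', hr', hs', h'⟩ := hy
  exact ⟨N + M, r * r', s * s', pow_add f N M ▸ mul_dvd_mul hr hr', pow_add f N M ▸ mul_dvd_mul hs hs',
    by rw [map_mul, map_mul, ← h, ← h']; ring⟩

lemma Un.mono {f g : R} (k : ℕ) (h : f ∣ g ^ k) {x : K} (hx : Un f x) : Un g x := by
  obtain ⟨N, r, s, hr, hs, e⟩ := hx
  exact ⟨k * N, r, s, hr.trans ((pow_mul g k N).symm ▸ pow_dvd_pow_of_dvd h N),
    hs.trans ((pow_mul g k N).symm ▸ pow_dvd_pow_of_dvd h N), e⟩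

lemma Un.mono' {f g : R} (h : f ∣ g) {x : K} (hx : Un f x) : Un g x :=
  hx.mono 1 (by rwa [pow_one])

lemma un_one (f : R) : Un f (1 : K) :=
  ⟨0, 1, 1, one_dvd _, one_dvd _, by simp⟩

lemma un_algebraMap {f r : R} (N : ℕ) (h : r ∣ f ^ N) : Un f (algebraMap R K r) :=
  ⟨N, r, 1, h, one_dvd _, by simp⟩

variable [IsDomain R] [IsFractionRing R K]

lemma algebraMap_ne_zero_of_dvd_pow {f r : R} (hf : f ≠ 0) {N : ℕ} (h : r ∣ f ^ N) : algebraMap R K r ≠ 0 :=
  fun h0 => ne_zero_of_dvd_ne_zero (pow_ne_zero N hf) h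
    (IsFractionRing.injective R K (h0.trans (map_zero _).symm))

lemma Un.ne_zero {f : R} (hf : f ≠ 0) {x : K} (hx : Un f x) : x ≠ 0 := by
  obtain ⟨N, r, s, hr, -, e⟩ := hx
  exact fun h => algebraMap_ne_zero_of_dvd_pow hf hr (by rw [← e, h, zero_mul])

lemma Un.inv {f : R} (hf : f ≠ 0) {x : K} (hx : Un f x) : Un f x⁻¹ := by
  have := hx.ne_zero hf
  obtain ⟨N, r, s, hr, hs, e⟩ := hx
  refine ⟨N, s, r, hs, hr, ?_⟩
  rw [← e]; field_simp

lemma Un.div {f : R} (hf : f ≠ 0) {x y : K} (hx : Un f x) (hy : Un f y) : Un f (x / y) :=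
  div_eq_mul_inv x y ▸ hx.mul (hy.inv hf)

lemma Un.zpow {f : R} (hf : f ≠ 0) {x : K} (hx : Un f x) (n : ℤ) : Un f (x ^ n) := by
  induction n using Int.induction_on with
  | zero => simpa using un_one f
  | succ n ih => rw [zpow_add_one₀ (hx.ne_zero hf)]; exact ih.mul hx
  | pred n ih => rw [zpow_sub_one₀ (hx.ne_zero hf)]; exact ih.mul (hx.inv hf)

variable [UniqueFactorizationMonoid R]

lemma exists_pow_mul_of_dvd {p m : R} (hp : Prime p) {N : ℕ} {r : R} (h : r ∣ (p * m) ^ N) :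
    ∃ (a : ℕ) (r' : R), r' ∣ m ^ N ∧ r = p ^ a * r' := by
  rw [mul_pow] at h
  obtain ⟨d, e, hd, he, rfl⟩ := exists_dvd_and_dvd_of_dvd_mul h
  obtain ⟨a, -, ha⟩ := (dvd_prime_pow hp N).1 hd
  obtain ⟨w, hw⟩ := ha.symm
  exact ⟨a, w * e, (Units.mul_left_dvd).2 he, by rw [← hw, mul_assoc]⟩

lemma Un.exists_zpow {p m : R} (hp : Prime p) {x : K} (hx : Un (p * m) x) :
    ∃ n : ℤ, Un m (x / algebraMap R K p ^ n) := by
  obtain ⟨N, r, s, hr, hs, e⟩ := hx
  obtain ⟨a, r', hr', rfl⟩ := exists_pow_mul_of_dvd hp hr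
  obtain ⟨b, s', hs', rfl⟩ := exists_pow_mul_of_dvd hp hs
  have hp0 : algebraMap R K p ≠ 0 := fun h0 =>
    hp.ne_zero (IsFractionRing.injective R K (h0.trans (map_zero _).symm))
  refine ⟨(a : ℤ) - b, N, r', s', hr', hs', ?_⟩
  rw [zpow_sub₀ hp0, zpow_natCast, zpow_natCast]
  simp only [map_mul, map_pow] at e
  field_simp
  linear_combination e

lemma Un.eq_zero_of_not_dvd {p m : R} (hp : Prime p) (hpm : ¬p ∣ m) {n : ℤ}
    (h : Un m (algebraMap R K p ^ n)) : n = 0 := by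
  have hm : m ≠ 0 := fun h0 => hpm (h0 ▸ dvd_zero p)
  obtain ⟨k, rfl | rfl⟩ := n.eq_nat_or_neg <;> by_contra hk
  all_goals have hk0 : k ≠ 0 := by rintro rfl; simp at hk
  · obtain ⟨N, r, s, hr, hs, e⟩ := h
    rw [zpow_natCast, ← map_pow, ← map_mul] at e
    exact hpm (hp.dvd_of_dvd_pow ((dvd_mul_of_dvd_left (dvd_pow_self p hk0) s).trans
      ((IsFractionRing.injective R K e).symm ▸ hr)))
  · obtain ⟨N, r, s, hr, hs, e⟩ := h.inv hm
    rw [zpow_neg, inv_inv, zpow_natCast, ← map_pow, ← map_mul] at e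
    exact hpm (hp.dvd_of_dvd_pow ((dvd_mul_of_dvd_left (dvd_pow_self p hk0) s).trans
      ((IsFractionRing.injective R K e).symm ▸ hr)))

theorem exists_coboundary {ι : Type*} (F : ι → R) (hF : ∀ i, F i ≠ 0) (g : R) (hg : g ≠ 0) (a : ι → K)
    (h : ∀ i j, Un (F i * F j) (a i / a j)) (h' : ∀ i, Un (F i * g) (a i)) :
    ∃ c : K, c ≠ 0 ∧ ∀ i, Un (F i) (a i / c) := by
  classical
  induction g using UniqueFactorizationMonoid.induction_on_prime generalizing a with
  | h₁ => exact absurd rfl hg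
  | h₂ u hu =>
    refine ⟨1, one_ne_zero, fun i => ?_⟩
    rw [div_one]
    exact (h' i).mono' (hu.mul_right_dvd.2 dvd_rfl)
  | h₃ g' p hg' hp ih =>
    by_cases hall : ∀ i, p ∣ F i * g'
    · refine ih hg' a h fun i => (h' i).mono 2 ?_
      rw [sq, show F i * (p * g') = p * (F i * g') by ring]
      exact mul_dvd_mul_right (hall i) _
    push Not at hall
    obtain ⟨i₀, hi₀⟩ := hall
    obtain ⟨n, hn⟩ := Un.exists_zpow hp ((h' i₀).mono' (dvd_of_eq (by ring : F i₀ * (p * g') = p * (F i₀ * g'))))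
    set P : K := algebraMap R K p with hP
    have hP0 : P ≠ 0 := fun h0 => hp.ne_zero (IsFractionRing.injective R K (h0.trans (map_zero _).symm))
    have hPn : P ^ n ≠ 0 := zpow_ne_zero _ hP0
    obtain ⟨c, hc, hc'⟩ := ih hg' (fun i => a i / P ^ n)
      (fun i j => by rw [div_div_div_cancel_right₀ hPn]; exact h i j) fun i => by
      have hi : F i * g' ≠ 0 := mul_ne_zero (hF i) hg'
      by_cases hpi : p ∣ F i * g'
      · refine ((h' i).mono 2 ?_).div hi (Un.zpow hi (un_algebraMap 1 (by rwa [pow_one])) n)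
        rw [sq, show F i * (p * g') = p * (F i * g') by ring]
        exact mul_dvd_mul_right hpi _
      obtain ⟨n', hn'⟩ := Un.exists_zpow hp ((h' i).mono' (dvd_of_eq (by ring : F i * (p * g') = p * (F i * g'))))
      suffices n' = n by subst this; exact hn'
      have hM : F i * F i₀ * g' ≠ 0 := mul_ne_zero (mul_ne_zero (hF i) (hF i₀)) hg'
      have h1 : Un (F i * F i₀ * g') (P ^ (n' - n)) := by
        have e : P ^ (n' - n) = (a i / a i₀) / ((a i / P ^ n') / (a i₀ / P ^ n)) := by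
          have := (h' i).ne_zero (mul_ne_zero (hF i) hg)
          have := (h' i₀).ne_zero (mul_ne_zero (hF i₀) hg)
          have := zpow_ne_zero n' hP0
          rw [zpow_sub₀ hP0]; field_simp
        rw [e]
        exact ((h i i₀).mono' (Dvd.intro g' rfl)).div hM ((hn'.mono' ⟨F i₀, by ring⟩).div hM
          (hn.mono' ⟨F i, by ring⟩))
      refine sub_eq_zero.1 (h1.eq_zero_of_not_dvd hp fun hd => ?_)
      rcases hp.dvd_or_dvd hd with hd | hd
      · rcases hp.dvd_or_dvd hd with hd | hd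
        · exact hpi (dvd_mul_of_dvd_left hd _)
        · exact hi₀ (dvd_mul_of_dvd_left hd _)
      · exact hpi (dvd_mul_of_dvd_right hd _)
    exact ⟨c * P ^ n, mul_ne_zero hc hPn, fun i => by
      have := hc' i; rwa [div_div, mul_comm] at this⟩

end Groth.Agent.InvUfdLib
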